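import Groth.Prelude.Def_MoreMor
import Groth.Prelude.Def_Mor2
import Groth.Agent.FpqcDescent.QuasiAffine
import Groth.Agent.S2338

/-!
# Ind-quasi-affine morphisms
-/

set_option autoImplicit false

universe u

open CategoryTheory CategoryTheory.Limits AlgebraicGeometry

namespace Groth.Agent.IndQA

variable {X Y Z : Scheme.{u}}

/-- Quasi-affineness of a quasi-compact open inside a quasi-affine open. -/
theorem quasiAffine_of_le {U W : X.Opens} (h : U ≤ W) (hU : IsCompact (U : Set X))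
    (hW : W.toScheme.IsQuasiAffine) : U.toScheme.IsQuasiAffine := by
  haveI := hW
  haveI : CompactSpace U.toScheme := isCompact_iff_compactSpace.mp hU
  exact Scheme.IsQuasiAffine.of_isImmersion (X.homOfLE h)

theorem isIndQuasiAffine_opens_iff (W : X.Opens) : MoreMor.IsIndQuasiAffine W.toScheme ↔
    ∀ U : X.Opens, U ≤ W → IsCompact (U : Set X) → U.toScheme.IsQuasiAffine := by
  refine ⟨fun h U hUW hU => ?_, fun h U hU => ?_⟩
  · have hc : IsCompact ((W.ι ⁻¹ᵁ U : W.toScheme.Opens) : Set W.toScheme) := by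
      rw [W.ι.isOpenEmbedding.isInducing.isCompact_iff]
      convert hU using 1
      exact Set.image_preimage_eq_of_subset (fun x hx => ⟨⟨x, hUW hx⟩, rfl⟩)
    haveI := h _ hc
    have e : (W.ι ''ᵁ (W.ι ⁻¹ᵁ U)) = U := by
      rw [Scheme.Hom.image_preimage_eq_opensRange_inf, Scheme.Opens.opensRange_ι, inf_eq_right.2 hUW]
    exact FpqcDescent.isQuasiAffine_of_iso
      ((X.isoOfEq e).inv ≫ (W.ι.isoImage (W.ι ⁻¹ᵁ U)).inv)
  · haveI := h (W.ι ''ᵁ U) (W.ι.image_le_opensRange U |>.trans (le_of_eq W.opensRange_ι))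
      (hU.image W.ι.continuous)
    exact FpqcDescent.isQuasiAffine_of_iso (W.ι.isoImage U).hom

theorem isIndQuasiAffineHom_iff (f : X ⟶ Y) : MoreMor.IsIndQuasiAffineHom f ↔
    ∀ V : Y.Opens, IsAffineOpen V → ∀ U : X.Opens, U ≤ f ⁻¹ᵁ V → IsCompact (U : Set X) →
      U.toScheme.IsQuasiAffine :=
  forall_congr' fun _ => forall_congr' fun _ => isIndQuasiAffine_opens_iff _

/-- A morphism to an affine scheme with quasi-affine pieces over a basic cover. -/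
theorem quasiAffine_of_cover (f : X ⟶ Y) {U : X.Opens} {V : Y.Opens} (hV : IsAffineOpen V)
    (hUV : U ≤ f ⁻¹ᵁ V) (hU : IsCompact (U : Set X))
    (H : ∀ y ∈ V, ∃ r : Γ(Y, V), y ∈ Y.basicOpen r ∧
      ∀ U' : X.Opens, U' ≤ f ⁻¹ᵁ Y.basicOpen r → U' ≤ U → IsCompact (U' : Set X) →
        U'.toScheme.IsQuasiAffine) :
    U.toScheme.IsQuasiAffine := by
  haveI : CompactSpace U.toScheme := isCompact_iff_compactSpace.mp hU
  haveI : IsAffine V.toScheme := hV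
  haveI : QuasiCompact (f.resLE V U hUV) := quasiCompact_of_compactSpace _
  refine FpqcDescent.isQuasiAffine_of_basicOpen_cover _ fun x => ?_
  obtain ⟨r, hr, hq⟩ := H (f x.1) (hUV x.2)
  have htop : (⊤ : U.toScheme.Opens) ≤ (U.ι ≫ f) ⁻¹ᵁ V := fun z _ => hUV z.2
  let e : Γ(U.toScheme, ⊤) := (U.ι ≫ f).appLE V ⊤ htop r
  have hP : U.toScheme.basicOpen e = U.ι ⁻¹ᵁ (f ⁻¹ᵁ Y.basicOpen r) := by
    show U.toScheme.basicOpen (((U.ι ≫ f).app V ≫ U.toScheme.presheaf.map (homOfLE htop).op) r) = _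
    rw [ConcreteCategory.comp_apply, Scheme.basicOpen_res, ← Scheme.preimage_basicOpen, top_inf_eq,
      Scheme.Hom.comp_preimage]
  refine ⟨e, hP ▸ hr, ?_⟩
  have hc : IsCompact ((U.toScheme.basicOpen e : U.toScheme.Opens) : Set U.toScheme) := by
    rw [hP, show U.ι ⁻¹ᵁ (f ⁻¹ᵁ Y.basicOpen r) = (f.resLE V U hUV) ⁻¹ᵁ (V.ι ⁻¹ᵁ Y.basicOpen r) by
      rw [← Scheme.Hom.comp_preimage, ← Scheme.Hom.comp_preimage, Scheme.Hom.resLE_comp_ι]]
    refine (f.resLE V U hUV).isCompact_preimage ?_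
    rw [V.ι.isOpenEmbedding.isInducing.isCompact_iff]
    convert (hV.basicOpen r).isCompact using 1
    exact Set.image_preimage_eq_of_subset (s := (Y.basicOpen r : Set Y)) (f := V.ι)
      fun y hy => ⟨⟨y, Y.basicOpen_le r hy⟩, rfl⟩
  haveI := hq (U.ι ''ᵁ U.toScheme.basicOpen e) (by rintro y ⟨z, hz, rfl⟩; exact hP.le hz)
    (by rintro y ⟨z, -, rfl⟩; exact z.2) (hc.image U.ι.continuous)
  exact FpqcDescent.isQuasiAffine_of_iso (U.ι.isoImage (U.toScheme.basicOpen e)).hom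

theorem comp (f : X ⟶ Y) (g : Y ⟶ Z) (hf : MoreMor.IsIndQuasiAffineHom f)
    (hg : MoreMor.IsIndQuasiAffineHom g) : MoreMor.IsIndQuasiAffineHom (f ≫ g) := by
  rw [isIndQuasiAffineHom_iff] at hf hg ⊢
  intro V hV U hUV hU
  obtain ⟨W, hW, hWc, hle, hWV⟩ : ∃ W : Y.Opens, ∃ _ : W ≤ g ⁻¹ᵁ V, ∃ _ : IsCompact (W : Set Y),
      U ≤ f ⁻¹ᵁ W ∧ True := by
    have key : ∀ y ∈ f '' (U : Set X), ∃ A : Y.Opens, IsAffineOpen A ∧ y ∈ A ∧ A ≤ g ⁻¹ᵁ V := by
      rintro _ ⟨x, hx, rfl⟩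
      obtain ⟨_, ⟨A, hA, rfl⟩, hxA, hAV⟩ :=
        Y.isBasis_affineOpens.exists_subset_of_mem_open (hUV hx : f x ∈ g ⁻¹ᵁ V) (g ⁻¹ᵁ V).2
      exact ⟨A, hA, hxA, hAV⟩
    choose A hA hyA hAV using key
    obtain ⟨t, ht⟩ := (hU.image f.continuous).elim_finite_subcover
      (fun y : f '' (U : Set X) => (A y.1 y.2 : Set Y)) (fun y => (A y.1 y.2).2)
      (fun y hy => Set.mem_iUnion.2 ⟨⟨y, hy⟩, hyA y hy⟩)
    refine ⟨⟨⋃ y ∈ t, (A y.1 y.2 : Set Y), isOpen_biUnion fun y _ => (A y.1 y.2).2⟩,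
      Set.iUnion₂_subset fun y _ => hAV y.1 y.2,
      t.finite_toSet.isCompact_biUnion fun y _ => (hA y.1 y.2).isCompact,
      fun x hx => ht ⟨x, hx, rfl⟩, trivial⟩
  haveI hWq := hg V hV W hW hWc
  haveI : CompactSpace U.toScheme := isCompact_iff_compactSpace.mp hU
  haveI : CompactSpace W.toScheme := isCompact_iff_compactSpace.mp hWc
  let h : U.toScheme ⟶ W.toScheme := f.resLE W U hle
  haveI : QuasiCompact h := quasiCompact_of_compactSpace h
  have h1 : Mor2.IsQuasiAffine h := by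
    refine ⟨inferInstance, fun A hA => ?_⟩
    haveI := hf (W.ι ''ᵁ A) (hA.image_of_isOpenImmersion W.ι) (U.ι ''ᵁ (h ⁻¹ᵁ A))
      (by
        rintro y ⟨z, hz, rfl⟩
        refine ⟨h z, hz, ?_⟩
        show (h ≫ W.ι) z = (U.ι ≫ f) z
        rw [Scheme.Hom.resLE_comp_ι])
      ((h.isCompact_preimage hA.isCompact).image U.ι.continuous)
    exact FpqcDescent.isQuasiAffine_of_iso (U.ι.isoImage (h ⁻¹ᵁ A)).hom
  have h2 : Mor2.IsQuasiAffine W.toScheme.toSpecΓ := by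
    refine ⟨inferInstance, fun A hA => ?_⟩
    haveI : CompactSpace (W.toScheme.toSpecΓ ⁻¹ᵁ A).toScheme := isCompact_iff_compactSpace.mp
      (W.toScheme.toSpecΓ.isCompact_preimage hA.isCompact)
    exact Scheme.IsQuasiAffine.of_isImmersion (W.toScheme.toSpecΓ ⁻¹ᵁ A).ι
  haveI : (⊤ : U.toScheme.Opens).toScheme.IsQuasiAffine :=
    (Groth.Agent.S2338.result h W.toScheme.toSpecΓ h1 h2).2 ⊤ (isAffineOpen_top _)
  exact FpqcDescent.isQuasiAffine_of_iso (U.toScheme.topIso).inv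

theorem of_comp (f : X ⟶ Y) (g : Y ⟶ Z) (h : MoreMor.IsIndQuasiAffineHom (f ≫ g)) :
    MoreMor.IsIndQuasiAffineHom f := by
  rw [isIndQuasiAffineHom_iff] at h ⊢
  intro V hV U hUV hU
  refine quasiAffine_of_cover f hV hUV hU fun y hy => ?_
  obtain ⟨_, ⟨A, hA, rfl⟩, hyA, -⟩ :=
    Z.isBasis_affineOpens.exists_subset_of_mem_open (Set.mem_univ (g y)) isOpen_univ
  obtain ⟨r, hr, hyr⟩ := hV.exists_basicOpen_le (V := g ⁻¹ᵁ A) ⟨y, hyA⟩ hy
  exact ⟨r, hyr, fun U' h1 _ hc => h A hA U' (fun x hx => hr (h1 hx)) hc⟩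

theorem baseChange {S X' S' : Scheme.{u}} {f : X ⟶ S} {f' : X' ⟶ S'} {g' : X' ⟶ X} {g : S' ⟶ S}
    (hc : IsPullback g' f' f g) (hf : MoreMor.IsIndQuasiAffineHom f) :
    MoreMor.IsIndQuasiAffineHom f' := by
  rw [isIndQuasiAffineHom_iff] at hf ⊢
  intro V' hV' U hUV hU
  refine quasiAffine_of_cover f' hV' hUV hU fun y hy => ?_
  obtain ⟨V, hV, hyV⟩ : ∃ V : S.Opens, IsAffineOpen V ∧ g y ∈ V := by
    obtain ⟨_, ⟨V, hV, rfl⟩, hyV, -⟩ :=
      S.isBasis_affineOpens.exists_subset_of_mem_open (Set.mem_univ (g y)) isOpen_univ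
    exact ⟨V, hV, hyV⟩
  obtain ⟨r, hr, hyr⟩ := hV'.exists_basicOpen_le (V := g ⁻¹ᵁ V) ⟨y, hyV⟩ hy
  refine ⟨r, hyr, fun U' h1 _ hU' => ?_⟩
  let D := S'.basicOpen r
  have hgV : ∀ x ∈ U', g' x ∈ f ⁻¹ᵁ V := fun x hx => by
    show f (g' x) ∈ V
    rw [← Scheme.Hom.comp_apply, hc.w, Scheme.Hom.comp_apply]
    exact hr (h1 hx)
  have key : ∀ y ∈ g' '' (U' : Set X'), ∃ A : X.Opens, IsAffineOpen A ∧ y ∈ A ∧ A ≤ f ⁻¹ᵁ V := by
    rintro _ ⟨x, hx, rfl⟩
    obtain ⟨_, ⟨A, hA, rfl⟩, hxA, hAV⟩ :=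
      X.isBasis_affineOpens.exists_subset_of_mem_open (hgV x hx) (f ⁻¹ᵁ V).2
    exact ⟨A, hA, hxA, hAV⟩
  choose A hA hyA hAV using key
  obtain ⟨t, ht⟩ := (hU'.image g'.continuous).elim_finite_subcover
    (fun y : g' '' (U' : Set X') => (A y.1 y.2 : Set X)) (fun y => (A y.1 y.2).2)
    (fun y hy => Set.mem_iUnion.2 ⟨⟨y, hy⟩, hyA y hy⟩)
  let W : X.Opens := ⟨⋃ y ∈ t, (A y.1 y.2 : Set X), isOpen_biUnion fun y _ => (A y.1 y.2).2⟩
  have hWV : W ≤ f ⁻¹ᵁ V := Set.iUnion₂_subset fun y _ => hAV y.1 y.2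
  have hWc : IsCompact (W : Set X) :=
    t.finite_toSet.isCompact_biUnion fun y _ => (hA y.1 y.2).isCompact
  haveI := hf V hV W hWV hWc
  haveI : IsAffine V.toScheme := hV
  haveI : IsAffine D.toScheme := hV'.basicOpen r
  let φ := f.resLE V W hWV
  let ψ := g.resLE V D hr
  let P := pullback φ ψ
  haveI : IsAffineHom ψ := isAffineHom_of_isAffine ψ
  haveI : IsAffineHom (pullback.fst φ ψ) := MorphismProperty.pullback_fst φ ψ inferInstance
  haveI : P.IsQuasiAffine := Scheme.IsQuasiAffine.of_isAffineHom (pullback.fst φ ψ)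
  have hleW : U' ≤ g' ⁻¹ᵁ W := fun x hx => ht ⟨x, hx, rfl⟩
  let i : U'.toScheme ⟶ P := pullback.lift (g'.resLE W U' hleW) (f'.resLE D U' h1) (by
    rw [← cancel_mono V.ι]
    simp [φ, ψ, hc.w])
  let q : P ⟶ X' := hc.lift (pullback.fst φ ψ ≫ W.ι) (pullback.snd φ ψ ≫ D.ι) (by
    have := congrArg (· ≫ V.ι) (pullback.condition (f := φ) (g := ψ))
    simpa [φ, ψ] using this)
  have hiq : i ≫ q = U'.ι := by
    refine hc.hom_ext ?_ ?_
    · rw [Category.assoc, hc.lift_fst, ← Category.assoc]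
      erw [pullback.lift_fst]
      exact Scheme.Hom.resLE_comp_ι _ _
    · rw [Category.assoc, hc.lift_snd, ← Category.assoc]
      erw [pullback.lift_snd]
      exact Scheme.Hom.resLE_comp_ι _ _
  haveI : IsImmersion (i ≫ q) := by rw [hiq]; infer_instance
  haveI : IsImmersion i := IsImmersion.of_comp i q
  haveI : CompactSpace U'.toScheme := isCompact_iff_compactSpace.mp hU'
  exact Scheme.IsQuasiAffine.of_isImmersion i

theorem of_isImmersion (f : X ⟶ Y) [IsImmersion f] : MoreMor.IsIndQuasiAffineHom f := by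
  rw [isIndQuasiAffineHom_iff]
  intro V hV U hUV hU
  haveI : IsAffine V.toScheme := hV
  haveI : CompactSpace U.toScheme := isCompact_iff_compactSpace.mp hU
  haveI : IsImmersion (f.resLE V U hUV ≫ V.ι) := by rw [Scheme.Hom.resLE_comp_ι]; infer_instance
  haveI : IsImmersion (f.resLE V U hUV) := IsImmersion.of_comp _ V.ι
  exact Scheme.IsQuasiAffine.of_isImmersion (f.resLE V U hUV)

theorem of_isQuasiAffineHom (f : X ⟶ Y) (hf : MoreMor.IsQuasiAffineHom f) :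
    MoreMor.IsIndQuasiAffineHom f := by
  rw [isIndQuasiAffineHom_iff]
  intro V hV U hUV hU
  exact quasiAffine_of_le hUV hU (hf.2 V hV)

theorem iff_qcqs (f : X ⟶ Y) : MoreMor.IsIndQuasiAffineHom f ↔
    ∀ V : Y.Opens, IsCompact (V : Set Y) → IsQuasiSeparated (V : Set Y) →
      ∀ (U : X.Opens) (hUV : U ≤ f ⁻¹ᵁ V), IsCompact (U : Set X) →
        MoreMor.IsQuasiAffineHom (f.resLE V U hUV) := by
  rw [isIndQuasiAffineHom_iff]
  refine ⟨fun h V _ hVqs U hUV hU => ?_, fun h V hV U hUV hU => ?_⟩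
  · haveI : CompactSpace U.toScheme := isCompact_iff_compactSpace.mp hU
    haveI : QuasiSeparatedSpace V.toScheme :=
      (isQuasiSeparated_iff_quasiSeparatedSpace _ V.2).1 hVqs
    haveI : QuasiCompact (f.resLE V U hUV) := quasiCompact_of_compactSpace _
    refine ⟨inferInstance, fun A hA => ?_⟩
    haveI := h (V.ι ''ᵁ A) (hA.image_of_isOpenImmersion V.ι) (U.ι ''ᵁ (f.resLE V U hUV ⁻¹ᵁ A))
      (by
        rintro y ⟨z, hz, rfl⟩
        refine ⟨f.resLE V U hUV z, hz, ?_⟩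
        show (f.resLE V U hUV ≫ V.ι) z = (U.ι ≫ f) z
        rw [Scheme.Hom.resLE_comp_ι])
      (((f.resLE V U hUV).isCompact_preimage hA.isCompact).image U.ι.continuous)
    exact FpqcDescent.isQuasiAffine_of_iso (U.ι.isoImage _).hom
  · haveI : IsAffine V.toScheme := hV
    haveI : (⊤ : U.toScheme.Opens).toScheme.IsQuasiAffine :=
      (h V hV.isCompact hV.isQuasiSeparated U hUV hU).2 ⊤ (isAffineOpen_top _)
    exact FpqcDescent.isQuasiAffine_of_iso (U.toScheme.topIso).inv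

end Groth.Agent.IndQA
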